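import Groth.Prelude.Def_PicRel2
import Groth.Agent.Lib.DvrCrit.Existence
import Groth.Agent.Lib.PicFppf.Classes
import Groth.Agent.Lib.WeilExt.Basic
import Groth.Agent.S0234
import Groth.Agent.S2821

/-!
# Closed subschemes of finite type of a separated Picard scheme are proper
-/

set_option autoImplicit false
set_option maxHeartbeats 200000
set_option linter.style.haveILetI false
universe u

open CategoryTheory CategoryTheory.Limits AlgebraicGeometry
open Groth.Agent.Lib Groth.Agent.Lib.PicFppf.Classes

noncomputable section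

namespace Groth.Agent.Lib.PicSmProp.Extend

local instance (Y : Scheme.{u}) : PicGrp.Law Y := Groth.Agent.Lib.TensorMod.Invertible.law Y

/-- A generic point of a valuation ring of rank one is an open immersion. -/
theorem isOpenImmersion_gen {L : Type u} [Field L] (W : ValuationSubring L) [IsDiscreteValuationRing W] :
    IsOpenImmersion (DvrCrit.gen W) := by
  obtain ⟨ϖ, hϖ⟩ := IsDiscreteValuationRing.exists_irreducible W
  haveI : IsLocalization.Away ϖ L := by
    refine (IsLocalization.iff_of_le_of_exists_dvd (Submonoid.powers ϖ) (nonZeroDivisors W)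
      (Submonoid.powers_le.2 (mem_nonZeroDivisors_of_ne_zero hϖ.ne_zero)) fun r hr => ?_).2 inferInstance
    obtain ⟨n, hn⟩ := IsDiscreteValuationRing.associated_pow_irreducible (nonZeroDivisors.ne_zero hr) hϖ
    exact ⟨ϖ ^ n, ⟨n, rfl⟩, hn.dvd⟩
  exact IsOpenImmersion.of_isLocalization (R := W) (S := L) ϖ

variable {X S : Scheme.{u}} (f : X ⟶ S) [IsProper f] [Smooth f]

/-- Classes extend from the generic point of a discrete valuation ring. -/
theorem exists_extension {R : Type u} [CommRing R] [IsDomain R] [IsDedekindDomain R] {U T : Over S}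
    (t : T.left ⟶ Spec (CommRingCat.of R)) [IsIso t] (j : U ⟶ T) [IsOpenImmersion j.left]
    (c : PicLoc.PicSet (PicF.XT f U)) : ∃ d, pc (PicF.XTmap f j) d = c := by
  let p : PicF.XT f T ⟶ Spec (CommRingCat.of R) := PicF.XTproj f T ≫ t
  haveI : Smooth (PicF.XTproj f T) := inferInstanceAs (Smooth (pullback.snd f T.hom))
  haveI : IsProper (PicF.XTproj f T) := inferInstanceAs (IsProper (pullback.snd f T.hom))
  haveI : Smooth p := inferInstance
  haveI : IsLocallyNoetherian (PicF.XT f T) :=
    Groth.Agent.Lib.WeilExt.Basic.isLocallyNoetherian_of_smooth p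
  let jX := PicF.XTmap f j
  haveI : IsOpenImmersion jX := by
    have h : IsPullback jX (pullback.snd f U.hom) (pullback.snd f T.hom) j.left := by
      refine IsPullback.of_right ?_ (pullback.lift_snd _ _ _) (IsPullback.of_hasPullback f T.hom)
      rw [show jX ≫ pullback.fst f T.hom = pullback.fst f U.hom from XTmap_fst f j, Over.w j]
      exact IsPullback.of_hasPullback f U.hom
    exact MorphismProperty.of_isPullback h.flip (inferInstanceAs (IsOpenImmersion j.left))
  let V := jX.opensRange
  let e := Scheme.Hom.isoOpensRange jX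
  have he : e.hom ≫ V.ι = jX := Scheme.Hom.isoOpensRange_hom_ι jX
  obtain ⟨M, hM, hMc⟩ := PicGrp.exists_eq_cls (pc e.inv c)
  obtain ⟨L, hL, ⟨eL⟩⟩ := Groth.Agent.S0234.result (PicF.XT f T) V M hM fun x _ =>
    (@Groth.Agent.S2821.result ((PicF.XT f T).presheaf.stalk x) _
      (Groth.Agent.Lib.WeilExt.Basic.isRegularLocalRing_stalk p x)).2
  have h1 : pc V.ι (PicGrp.cls L hL) = PicGrp.cls M hM :=
    Subtype.ext (Quot.sound ⟨(Scheme.Modules.restrictFunctorIsoPullback V.ι).symm.app L ≪≫ eL⟩)
  refine ⟨PicGrp.cls L hL, ?_⟩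
  show pc jX _ = c
  rw [← he, pc_comp, h1, ← hMc, ← pc_comp, Iso.hom_inv_id, pc_id]

/-- **Properness** of closed subschemes of finite type. -/
theorem isProper [IsLocallyNoetherian S] (P : Over S) [IsSeparated P.hom]
    (hP : PicRel.RepresentedBy f P) {Z : Scheme.{u}} (i : Z ⟶ P.left) [IsClosedImmersion i]
    [LocallyOfFiniteType (i ≫ P.hom)] [QuasiCompact (i ≫ P.hom)] : IsProper (i ≫ P.hom) := by
  haveI : IsSeparated (i ≫ P.hom) := inferInstance
  obtain ⟨φ, hφ⟩ := hP
  let TZ : Over S := Over.mk (i ≫ P.hom)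
  let g : TZ ⟶ P := Over.homMk i rfl
  obtain ⟨ι, W, hW, hc⟩ := hφ.locallySurjective TZ g
  let m : (∐ fun k => (W k).left) ⟶ Z := Sigma.desc fun k => (W k).hom
  haveI : LocallyOfFiniteType m := IsZariskiLocalAtSource.sigmaDesc fun k => by
    haveI : Etale (W k).hom := (W k).prop
    infer_instance
  have hucl : UniversallyClosed (i ≫ P.hom) := by
    refine DvrCrit.universallyClosed_of_dvr_of_generizations (i ≫ P.hom) m (fun _ => True) ?_ ?_
    · intro x
      obtain ⟨k, y, hy⟩ := hW x
      refine ⟨Sigma.ι (fun k => (W k).left) k y, trivial, ?_⟩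
      rw [← Scheme.Hom.comp_apply, Sigma.ι_desc]
      exact hy ▸ specializes_rfl
    intro z _ V _ β hβ
    let L := (∐ fun k => (W k).left).residueField z
    obtain ⟨k, y, hky⟩ := (sigmaOpenCover fun k => (W k).left).exists_eq z
    let zz := (∐ fun k => (W k).left).fromSpecResidueField z
    let q : Spec (CommRingCat.of L) ⟶ (W k).left := IsOpenImmersion.lift (Sigma.ι (fun k => (W k).left) k) zz (by
      rintro _ ⟨w, rfl⟩
      exact ⟨y, hky.trans (Scheme.fromSpecResidueField_apply _ w).symm⟩)
    have hq : q ≫ (W k).hom = zz ≫ m := by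
      rw [show zz = q ≫ Sigma.ι (fun k => (W k).left) k from (IsOpenImmersion.lift_fac _ _ _).symm,
        Category.assoc, Sigma.ι_desc]
    let T : Over S := Over.mk β
    let U : Over S := Over.mk (zz ≫ m ≫ i ≫ P.hom)
    let j : U ⟶ T := Over.homMk (DvrCrit.gen V) hβ
    haveI : IsOpenImmersion j.left := isOpenImmersion_gen V
    let r : U ⟶ PicRel.ovr TZ (W k) := Over.homMk q (by
      show q ≫ (W k).hom ≫ i ≫ P.hom = zz ≫ m ≫ i ≫ P.hom
      rw [← Category.assoc, hq, Category.assoc])
    obtain ⟨c, hcinv, hcφ⟩ := hc k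
    let c₀ : PicLoc.PicSet (PicF.XT f U) := pc (PicF.XTmap f r) ⟨c, hcinv⟩
    obtain ⟨d, hd⟩ := exists_extension f (R := V) (T := T) (𝟙 _) j c₀
    have h1 : φ U c₀.1 = j ≫ φ T d.1 := by
      rw [← hd]
      exact hφ.natural T U j d.1 d.2
    have h2 : φ U c₀.1 = r ≫ PicRel.ovrHom TZ (W k) ≫ g := by
      rw [← hcφ]
      exact hφ.natural _ U r c hcinv
    have h3 : DvrCrit.gen V ≫ (φ T d.1).left = (zz ≫ m) ≫ i := by
      rw [← hq, Category.assoc]
      exact congrArg Over.Hom.left (h1.symm.trans h2)
    -- the lift lands in the closed subscheme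
    let δ := (φ T d.1).left
    haveI : IsClosedImmersion (pullback.snd i δ) := inferInstance
    haveI : IsDominant (DvrCrit.gen V) := by
      haveI := isOpenImmersion_gen V
      haveI : IrreducibleSpace ↥(Spec (CommRingCat.of V)) := inferInstance
      exact ⟨(DvrCrit.gen V).isOpenEmbedding.isOpen_range.dense ⟨_, IsLocalRing.closedPoint L, rfl⟩⟩
    haveI : IsDominant (pullback.snd i δ) := by
      haveI : IsDominant (pullback.lift (zz ≫ m) (DvrCrit.gen V) h3.symm ≫ pullback.snd i δ) := by
        rw [pullback.lift_snd]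
        infer_instance
      exact IsDominant.of_comp (pullback.lift (zz ≫ m) (DvrCrit.gen V) h3.symm) (pullback.snd i δ)
    haveI : Surjective (pullback.snd i δ) := ⟨fun x => by
      have hr := (pullback.snd i δ).isClosedEmbedding.isClosed_range.closure_eq
      have hd := (pullback.snd i δ).denseRange.closure_eq
      exact (Set.ext_iff.1 (hr.symm.trans hd) x).2 trivial⟩
    haveI : IsReduced T.left := inferInstanceAs (IsReduced (Spec (CommRingCat.of V)))
    haveI : IsIso (pullback.snd i δ) := isIso_of_isClosedImmersion_of_surjective _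
    refine ⟨inv (pullback.snd i δ) ≫ pullback.fst i δ, ?_, ?_⟩
    · rw [← cancel_mono i, Category.assoc, Category.assoc, pullback.condition, IsIso.inv_hom_id_assoc]
      exact h3
    · rw [Category.assoc, pullback.condition_assoc, IsIso.inv_hom_id_assoc]
      exact Over.w (φ T d.1)
  constructor

end Groth.Agent.Lib.PicSmProp.Extend
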