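import Groth.Agent.Lib.Cube.NN.Seesaw
import Groth.Agent.Lib.Cube.SeesawCons
import Groth.Agent.Lib.TensorMod.HomGlue
import Groth.Agent.Lib.GrpSch.ConnFibre
import Groth.Agent.H2.Rigid.Smooth
import Groth.Agent.H2.Rigid.PushFlat
import Groth.Agent.H75.BaseChange.Nhd
import Mathlib.AlgebraicGeometry.Artinian
import Mathlib.AlgebraicGeometry.Morphisms.QuasiFinite

/-!
# Loci of triviality for proper flat morphisms with finite étale Stein factorisation
-/

set_option autoImplicit false
set_option maxHeartbeats 200000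
set_option linter.style.haveILetI false
set_option backward.isDefEq.respectTransparency false
universe u

open CategoryTheory CategoryTheory.Limits AlgebraicGeometry TopologicalSpace

noncomputable section

namespace Groth.Agent.Lib.PicSmProp.TrivLocus

open Groth.Agent.Lib Groth.Agent.Lib.Cube
open Groth.Agent.H97.GlueLine (Cocycle)
open Groth.Agent.Lib.TensorMod.Dual
open Groth.Agent.Lib.TensorMod.Gen
open Groth.Agent.Lib.Cube.Triv
open Groth.Agent.Lib.Cube.Dvr
open Groth.Agent.Lib.Cube.Special (invC)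

/-- The pullback of `D` is trivial. -/
def Tv {P W : Scheme.{u}} (D : W.Modules) (g : P ⟶ W) : Prop :=
  Nonempty ((Scheme.Modules.pullback g).obj D ≅ Coh.structureModule P)

theorem Tv.comp {P Q W : Scheme.{u}} {D : W.Modules} {g : P ⟶ W} (h : Tv D g) (l : Q ⟶ P) :
    Tv D (l ≫ g) :=
  ⟨((Scheme.Modules.pullbackComp l g).app D).symm ≪≫ (Scheme.Modules.pullback l).mapIso h.some ≪≫
    PicLoc.pullbackStructureIso l⟩

theorem Tv.of_eq {P W : Scheme.{u}} {D : W.Modules} {g g' : P ⟶ W} (h : Tv D g) (e : g = g') : Tv D g' :=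
  e ▸ h

/-- Triviality descends along extensions of the base field. -/
theorem tv_id_of_extension {κ L : Type u} [Field κ] [Field L] (φ : κ →+* L) {W : Scheme.{u}}
    (pW : W ⟶ Spec (CommRingCat.of κ)) [IsProper pW] [GeometricallyIntegral pW]
    {D : W.Modules} (hD : PicF.IsInvertible D) {P : Scheme.{u}} {g : P ⟶ W}
    {p' : P ⟶ Spec (CommRingCat.of L)} (H : IsPullback g p' pW (Spec.map (CommRingCat.ofHom φ)))
    (ht : Tv D g) : Tv D (𝟙 W) := by
  letI : Algebra κ L := φ.toAlgebra
  letI : W.Over (Spec (CommRingCat.of κ)) := ⟨pW⟩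
  haveI : CompactSpace W := QuasiCompact.compactSpace_of_compactSpace pW
  haveI : W.IsSeparated := ⟨by
    haveI : IsSeparated (pW ≫ terminal.from (Spec (CommRingCat.of κ))) := inferInstance
    rwa [terminal.comp_from] at this⟩
  obtain ⟨ι, U, hU, hUc, e, he, c, hc⟩ := Triv.exists_cocycle hD
  obtain ⟨s, hs⟩ := isCompact_univ.elim_finite_subcover (fun a => (U a : Set W)) (fun a => (U a).2)
    fun x _ => by
      obtain ⟨a, ha⟩ := Opens.mem_iSup.1 (show x ∈ iSup U from hUc ▸ trivial)
      exact Set.mem_iUnion.2 ⟨a, ha⟩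
  let U' : {a // a ∈ s} → W.Opens := fun a => U a.1
  let c' : Cocycle U' := reindex c (fun a => a.1) (fun _ => le_rfl)
  have hUc' : iSup U' = ⊤ := top_le_iff.1 fun x _ => by
    obtain ⟨a, ha, hxa⟩ := Set.mem_iUnion₂.1 (hs (Set.mem_univ x))
    exact Opens.mem_iSup.2 ⟨⟨a, ha⟩, hxa⟩
  obtain ⟨v, hv, hve⟩ := trivAlong_reindex c (fun a : {a // a ∈ s} => a.1) (fun _ => le_rfl) g
    ((Triv.trivAlong_iff e he c hc hUc g).2 ht)
  obtain ⟨v', hv', hve'⟩ := Special.trivAlong_invC (c := c') ⟨v, hv, hve⟩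
  haveI : Surjective pW := inferInstance
  haveI : Surjective p' := MorphismProperty.of_isPullback H ‹Surjective pW›
  obtain ⟨z, -⟩ := p'.surjective (IsLocalRing.closedPoint L)
  obtain ⟨a₀, hza⟩ := Opens.mem_iSup.1 (show g z ∈ iSup U' from hUc' ▸ trivial)
  haveI : Nontrivial Γ(P, g ⁻¹ᵁ U' a₀) := @Scheme.component_nontrivial P _ ⟨⟨z, hza⟩⟩
  have key : ∀ (d : Cocycle U') (y : ∀ a, Γ(P, g ⁻¹ᵁ U' a)), IsUnit (y a₀) →
      IsRel (Triv.comap d g) y → ∃ x, IsRel d x ∧ x ≠ 0 := fun d y hy hr => by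
    by_contra hn
    simp only [not_exists, not_and, ne_eq, not_not] at hn
    exact hy.ne_zero (congrFun (NN.eq_zero_of_isRel_baseChange (κ := κ) (L := L) (fun a => hU a.1)
      (fun a b => (hU a.1).inf (hU b.1)) d (by exact H) hn hr) a₀)
  obtain ⟨x, hx, hx0⟩ := key c' v (hv a₀) (Special.isRel_of_triv hve)
  obtain ⟨y, hy, hy0⟩ := key (invC c') v' (hv' a₀) (Special.isRel_of_triv hve')
  haveI : IsIntegral W :=
    GeometricallyIntegral.geometrically_isIntegral (f := pW) (𝟙 _) (𝟙 W) pW
      (IsPullback.of_horiz_isIso ⟨by simp⟩)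
  haveI : GeometricallyConnected pW := OverField.geometricallyConnected_of_irreducible pW
  haveI : IsReduced W := inferInstance
  haveI : GeometricallyReduced pW := inferInstance
  haveI : Flat pW := by
    rw [HasRingHomProperty.iff_appLE (P := @Flat)]
    intro A B hle
    haveI : Subsingleton ↥(Spec (CommRingCat.of κ)) := inferInstanceAs (Subsingleton (PrimeSpectrum κ))
    letI : Algebra Γ(Spec (CommRingCat.of κ), A) Γ(W, B) := (pW.appLE A B hle).hom.toAlgebra
    by_cases hne : Nonempty A.1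
    · obtain ⟨⟨x, hx⟩⟩ := hne
      letI := (Groth.Agent.H75.BaseChange.isField_sections A.1 ⟨x, hx⟩).toField
      exact (RingHom.flat_algebraMap_iff (R := Γ(Spec (CommRingCat.of κ), A)) (S := Γ(W, B))).2 inferInstance
    · haveI : Subsingleton Γ(Spec (CommRingCat.of κ), A) := by
        rw [show (A.1 : (Spec (CommRingCat.of κ)).Opens) = ⊥ from Opens.ext (Set.eq_empty_iff_forall_notMem.2
          fun x hx => hne ⟨⟨x, hx⟩⟩)]
        infer_instance
      haveI : Module.Free Γ(Spec (CommRingCat.of κ), A) Γ(W, B) := Module.Free.of_subsingleton' _ _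
      exact (RingHom.flat_algebraMap_iff (R := Γ(Spec (CommRingCat.of κ), A)) (S := Γ(W, B))).2 inferInstance
  haveI : LocallyOfFinitePresentation pW := H2.Rigid.lfp_of_noetherian pW
  have hq : Function.Bijective pW.appTop.hom :=
    H2.Rigid.PushFlat.push_of_flat_fp pW (H2.Rigid.H0.of_geometrically pW) ⊤
  refine (Triv.trivAlong_iff e he c hc hUc _).1
    (trivAlong_of_reindex c (fun a : {a // a ∈ s} => a.1) (U' := U') (fun _ => le_rfl) hUc' (𝟙 W) ?_)
  refine ⟨x, Seesaw.isUnit_of_pair pW hq hUc' hx hy hx0 hy0, fun a b => ?_⟩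
  refine (hx a b (U' a ⊓ U' b) inf_le_left inf_le_right).trans ?_
  rw [rf_self]
  rfl

/-- Triviality at some field point means triviality at every field point at the same place. -/
theorem tv_of_tv {W V : Scheme.{u}} (g : W ⟶ V) [IsProper g] [GeometricallyIntegral g]
    {D : W.Modules} (hD : PicF.IsInvertible D) {K Ω : Type u} [Field K] [Field Ω]
    (σ : Spec (CommRingCat.of K) ⟶ V) (τ : Spec (CommRingCat.of Ω) ⟶ V)
    (h : τ (IsLocalRing.closedPoint Ω) = σ (IsLocalRing.closedPoint K))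
    (ht : Tv D (pullback.fst g τ)) : Tv D (pullback.fst g σ) := by
  obtain ⟨⟨t, φ⟩, rfl⟩ := (Scheme.SpecToEquivOfField K V).symm.surjective σ
  obtain ⟨⟨t', ψ⟩, rfl⟩ := (Scheme.SpecToEquivOfField Ω V).symm.surjective τ
  obtain rfl : t' = t := by
    have h1 : ∀ (F : Type u) [Field F] (x : V) (χ : V.residueField x ⟶ CommRingCat.of F),
        ((Scheme.SpecToEquivOfField F V).symm ⟨x, χ⟩) (IsLocalRing.closedPoint F) = x :=
      fun F _ x χ => V.fromSpecResidueField_apply x _
    rwa [h1, h1] at h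
  let κ := V.residueField t'
  let W₀ := pullback g (V.fromSpecResidueField t')
  have h0 : ∀ (F : Type u) [Field F] (χ : κ ⟶ CommRingCat.of F),
      ∃ (l : pullback g (Spec.map χ ≫ V.fromSpecResidueField t') ⟶ W₀),
        l ≫ pullback.fst g (V.fromSpecResidueField t') = pullback.fst g _ ∧
        IsPullback l (pullback.snd g _) (pullback.snd g (V.fromSpecResidueField t')) (Spec.map χ) := by
    intro F _ χ
    refine ⟨pullback.lift (pullback.fst g _) (pullback.snd g _ ≫ Spec.map χ)
      (by rw [Category.assoc]; exact pullback.condition), pullback.lift_fst _ _ _, ?_⟩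
    refine IsPullback.of_right ?_ (pullback.lift_snd _ _ _) (IsPullback.of_hasPullback g _)
    rw [pullback.lift_fst]
    exact IsPullback.of_hasPullback g _
  obtain ⟨l, hl, hpb⟩ := h0 Ω ψ
  obtain ⟨m, hm, -⟩ := h0 K φ
  have h1 : Tv ((Scheme.Modules.pullback (pullback.fst g (V.fromSpecResidueField t'))).obj D) l :=
    ⟨(Scheme.Modules.pullbackComp l (pullback.fst g (V.fromSpecResidueField t'))).app D ≪≫
      (Scheme.Modules.pullbackCongr hl).app D ≪≫ ht.some⟩
  have h2 := tv_id_of_extension ψ.hom (pullback.snd g (V.fromSpecResidueField t'))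
    (PicLoc.isInvertible_pullback _ hD) hpb h1
  have h3 := h2.comp m
  rw [Category.comp_id] at h3
  exact Tv.of_eq ⟨((Scheme.Modules.pullbackComp m (pullback.fst g (V.fromSpecResidueField t'))).app D).symm
    ≪≫ h3.some⟩ hm

/-- Modules trivial on the pieces of a disjoint open covering are trivial. -/
theorem tv_of_disjoint {Q W : Scheme.{u}} {D : W.Modules} (j : Q ⟶ W) {κ : Type u} (O : κ → Q.Opens)
    (hO : iSup O = ⊤) (hdisj : ∀ a b, a ≠ b → O a ⊓ O b = ⊥) (h : ∀ a, Tv D ((O a).ι ≫ j)) : Tv D j := by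
  let M := (Scheme.Modules.pullback j).obj D
  have hg : ∀ a, ∃ e : Γ(M, O a), IsGen M (O a) e := fun a =>
    exists_gen_of_iso ((Scheme.Modules.restrictFunctorIsoPullback (O a).ι).app M ≪≫
      (Scheme.Modules.pullbackComp (O a).ι j).app D ≪≫ (h a).some)
  choose e he using hg
  obtain ⟨φ, -⟩ := TensorMod.HomGlue.exists_iso_of_gen (L := Coh.structureModule Q) (M := M) hO
    (fun a => one Q (O a)) (fun a => Ample.GenLocus.isGen_one _) e he fun a b V ha hb r hr => by
      by_cases hab : a = b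
      · subst hab
        have h1 := (Ample.GenLocus.isGen_one (O a) V hb).1 (a₁ := 1) (a₂ := r) (by
          simpa using hr)
        rw [← h1, one_smul]
      · have hV : V = ⊥ := le_bot_iff.1 ((le_inf ha hb).trans (hdisj a b hab).le)
        subst hV
        obtain ⟨a₁, ha₁⟩ := (he a ⊥ ha).2 (rs M ha (e a))
        obtain ⟨a₂, ha₂⟩ := (he a ⊥ ha).2 (r • rs M hb (e b))
        rw [← ha₁, ← ha₂, Subsingleton.elim a₁ a₂]
  exact ⟨φ.symm⟩

/-- The points with trivial fibre form a closed set. -/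
theorem isClosed_tv {W V' V : Scheme.{u}} (g : W ⟶ V') [IsProper g] [Flat g]
    [LocallyOfFinitePresentation g] [GeometricallyIntegral g] (π : V' ⟶ V) [IsFinite π] [Etale π]
    {D : W.Modules} (hD : PicF.IsInvertible D) :
    IsClosed {t : V | ∃ (K : Type u) (_ : Field K) (σ : Spec (CommRingCat.of K) ⟶ V),
      σ (IsLocalRing.closedPoint K) = t ∧ Tv D (pullback.fst (g ≫ π) σ)} := by
  obtain ⟨ι, U, -, hUc, e, he, c, hc⟩ := Triv.exists_cocycle hD
  have hZ : IsClosed {t' : V' | NN.TrivPt g c t'} := NN.isClosed_trivPt g hUc c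
  convert ((π.isOpenMap _ hZ.isOpen_compl).isClosed_compl) using 1
  ext t
  constructor
  · rintro ⟨K, _, σ, hσ, htv⟩ ⟨t', ht', rfl⟩
    obtain ⟨w, hw, -⟩ := Scheme.Pullback.exists_preimage_pullback t' (IsLocalRing.closedPoint K)
      (f := π) (g := σ) hσ.symm
    let Q := pullback π σ
    let σ' : Spec (Q.residueField w) ⟶ V' := Q.fromSpecResidueField w ≫ pullback.fst π σ
    let l : pullback g σ' ⟶ pullback (g ≫ π) σ :=
      pullback.lift (pullback.fst g σ') (pullback.snd g σ' ≫ Q.fromSpecResidueField w ≫ pullback.snd π σ)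
        (by simp only [Category.assoc, pullback.condition_assoc, σ', ← pullback.condition])
    refine ht' ⟨Q.residueField w, inferInstance, σ', ?_, (Triv.trivAlong_iff e he c hc hUc _).2
      ((htv.comp l).of_eq (pullback.lift_fst _ _ _))⟩
    show pullback.fst π σ (Q.fromSpecResidueField w _) = t'
    rw [Q.fromSpecResidueField_apply]
    exact hw
  · intro ht
    let K := V.residueField t
    let σ : Spec (CommRingCat.of K) ⟶ V := V.fromSpecResidueField t
    refine ⟨K, inferInstance, σ, V.fromSpecResidueField_apply t _, ?_⟩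
    let Q := pullback π σ
    haveI : IsFinite (pullback.snd π σ) := inferInstance
    haveI : DiscreteTopology Q := inferInstanceAs (DiscreteTopology (π.fiber t))
    haveI : IsReduced Q := Groth.Agent.Lib.GrpSch.isReduced_of_smooth_field (pullback.snd π σ)
    let k : pullback (g ≫ π) σ ⟶ Q :=
      pullback.lift (pullback.fst (g ≫ π) σ ≫ g) (pullback.snd (g ≫ π) σ)
        (by rw [Category.assoc]; exact pullback.condition)
    let O : Q → Q.Opens := fun w => ⟨{w}, isOpen_discrete _⟩
    refine tv_of_disjoint (pullback.fst (g ≫ π) σ) (fun w => k ⁻¹ᵁ O w)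
      (top_le_iff.1 fun x _ => Opens.mem_iSup.2 ⟨k x, rfl⟩)
      (fun a b hab => Opens.ext (Set.eq_empty_iff_forall_notMem.2 fun x hx => hab (hx.1.symm.trans hx.2)))
      fun w => ?_
    let Y : Scheme.{u} := O w
    haveI : Subsingleton Y := inferInstanceAs (Subsingleton ({w} : Set Q))
    haveI : Nonempty Y := ⟨⟨w, rfl⟩⟩
    haveI : IrreducibleSpace Y := ⟨inferInstance⟩
    haveI : IsIntegral Y := (isIntegral_iff_irreducibleSpace_and_isReduced _).mpr ⟨inferInstance, inferInstance⟩
    haveI : Finite Y := Finite.of_subsingleton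
    letI := (isField_of_isIntegral_of_subsingleton Y).toField
    let σ' : Spec (CommRingCat.of Γ(Y, ⊤)) ⟶ V' := Y.isoSpec.inv ≫ (O w).ι ≫ pullback.fst π σ
    have hpt : π (σ' (IsLocalRing.closedPoint Γ(Y, ⊤))) = t := by
      rw [← Scheme.Hom.comp_apply]
      simp only [σ', Category.assoc, pullback.condition]
      exact V.fromSpecResidueField_apply t _
    obtain ⟨Ω, _, τ, hτ, htr⟩ : NN.TrivPt g c (σ' (IsLocalRing.closedPoint Γ(Y, ⊤))) := by
      by_contra hn
      exact ht ⟨_, hn, hpt⟩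
    have htv := tv_of_tv g hD σ' τ hτ ((Triv.trivAlong_iff e he c hc hUc _).1 htr)
    let l : (k ⁻¹ᵁ O w : Scheme.{u}) ⟶ pullback g σ' :=
      pullback.lift ((k ⁻¹ᵁ O w).ι ≫ pullback.fst (g ≫ π) σ) (k.resLE (O w) _ le_rfl ≫ Y.isoSpec.hom) (by
        simp only [σ', Category.assoc, Iso.hom_inv_id_assoc, Scheme.Hom.resLE_comp_ι_assoc, k,
          pullback.lift_fst])
    exact (htv.comp l).of_eq (pullback.lift_fst _ _ _)

end Groth.Agent.Lib.PicSmProp.TrivLocus
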