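import Groth.Prelude.Def_PicRel2
import Groth.Prelude.Def_AbDual
import Groth.Agent.Lib.PicSmProp.TrivLocus
import Groth.Agent.Lib.PicFppf.Classes
import Groth.Agent.S0388
import Groth.Agent.S3701
import Groth.Agent.H2.Rigid.GeomIrred

/-!
# Picard schemes of proper smooth morphisms are separated
-/

set_option autoImplicit false
set_option maxHeartbeats 200000
set_option linter.style.haveILetI false
universe u

open CategoryTheory CategoryTheory.Limits AlgebraicGeometry
open Groth.Agent.Lib Groth.Agent.Lib.PicFppf.Classes Groth.Agent.Lib.PicSmProp.TrivLocus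

noncomputable section

namespace Groth.Agent.Lib.PicSmProp.Separated

local instance (Y : Scheme.{u}) : PicGrp.Law Y := Groth.Agent.Lib.TensorMod.Invertible.law Y

variable {X S : Scheme.{u}} (f : X ⟶ S) [IsProper f] [Smooth f]

/-- The Stein factorisation of a proper smooth morphism. -/
theorem exists_stein : ∃ (S' : Scheme.{u}) (g : X ⟶ S') (π : S' ⟶ S), IsFinite π ∧ Etale π ∧ IsProper g ∧
    Smooth g ∧ GeometricallyIntegral g ∧ g ≫ π = f := by
  haveI : GeometricallyReduced f := Groth.Agent.H2.Rigid.geometricallyReduced_of_smooth f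
  obtain ⟨hfin, het⟩ := Groth.Agent.S3701.result f fun Ω _ _ σ =>
    GeometricallyReduced.geometrically_isReduced _ _ _ (IsPullback.of_hasPullback f σ)
  obtain ⟨hconn, -⟩ := Groth.Agent.S0388.result f
  have hfac : f.toNormalization ≫ f.fromNormalization = f := f.toNormalization_fromNormalization
  haveI : IsProper (f.toNormalization ≫ f.fromNormalization) := by rw [hfac]; infer_instance
  have hp : IsProper f.toNormalization := IsProper.of_comp f.toNormalization f.fromNormalization
  have hs : Smooth f.toNormalization := by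
    let l : X ⟶ pullback f f.fromNormalization :=
      pullback.lift (𝟙 X) f.toNormalization (by rw [Category.id_comp, hfac])
    haveI : Etale (l ≫ pullback.fst f f.fromNormalization) := by
      rw [pullback.lift_fst]; infer_instance
    haveI : Etale l := Etale.of_comp l (pullback.fst f f.fromNormalization)
    rw [show f.toNormalization = l ≫ pullback.snd f f.fromNormalization from (pullback.lift_snd _ _ _).symm]
    infer_instance
  exact ⟨_, _, _, hfin, het, hp, hs,
    Groth.Agent.H2.Rigid.GeomIrred.geometricallyIntegral_of_smooth f.toNormalization, hfac⟩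

/-- Agreement of two classes on some field point is closed. -/
theorem isClosed_agree (V : Over S) (a b : PicLoc.PicSet (PicF.XT f V)) :
    IsClosed {t : V.left | ∃ (K : Type u) (_ : Field K) (σ : Spec (CommRingCat.of K) ⟶ V.left),
      σ (IsLocalRing.closedPoint K) = t ∧
      pc (PicF.XTmap f (AbDual.ovrHom V σ)) a = pc (PicF.XTmap f (AbDual.ovrHom V σ)) b} := by
  obtain ⟨S', g₀, π, _, _, _, _, _, hfac⟩ := exists_stein f
  obtain ⟨D, hD, hDc⟩ := PicGrp.exists_eq_cls (a * b⁻¹)
  let g : PicF.XT f V ⟶ pullback π V.hom :=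
    pullback.lift (pullback.fst f V.hom ≫ g₀) (pullback.snd f V.hom)
      (by rw [Category.assoc, hfac]; exact pullback.condition)
  have hg : g ≫ pullback.snd π V.hom = PicF.XTproj f V := pullback.lift_snd _ _ _
  have hsq : IsPullback (pullback.fst f V.hom) g g₀ (pullback.fst π V.hom) := by
    refine IsPullback.of_bot ?_ (pullback.lift_fst _ _ _).symm (IsPullback.of_hasPullback π V.hom)
    rw [hfac, hg]
    exact IsPullback.of_hasPullback f V.hom
  haveI : IsProper g := MorphismProperty.of_isPullback hsq inferInstance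
  haveI : Smooth g := MorphismProperty.of_isPullback hsq inferInstance
  haveI : GeometricallyIntegral g := MorphismProperty.of_isPullback hsq inferInstance
  convert isClosed_tv g (pullback.snd π V.hom) hD using 1
  ext t
  refine exists_congr fun K => exists_congr fun hK => exists_congr fun σ => and_congr_right fun _ => ?_
  let m := PicF.XTmap f (AbDual.ovrHom V σ)
  let p := pullback.fst (g ≫ pullback.snd π V.hom) σ
  have key : p ≫ pullback.snd f V.hom = pullback.snd (g ≫ pullback.snd π V.hom) σ ≫ σ :=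
    (congrArg (p ≫ ·) hg.symm).trans pullback.condition
  let l₁ : PicF.XT f (AbDual.ovr V σ) ⟶ pullback (g ≫ pullback.snd π V.hom) σ :=
    pullback.lift m (pullback.snd f (AbDual.ovr V σ).hom) (by
      rw [hg]; exact XTmap_snd f (AbDual.ovrHom V σ))
  let l₂ : pullback (g ≫ pullback.snd π V.hom) σ ⟶ PicF.XT f (AbDual.ovr V σ) :=
    pullback.lift (p ≫ pullback.fst f V.hom) (pullback.snd (g ≫ pullback.snd π V.hom) σ) (by
      show _ = _ ≫ σ ≫ V.hom
      rw [← Category.assoc (pullback.snd (g ≫ pullback.snd π V.hom) σ), ← key, Category.assoc,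
        Category.assoc, pullback.condition])
  have hl₂ : l₂ ≫ m = p := by
    apply pullback.hom_ext
    · rw [Category.assoc, XTmap_fst]
      exact pullback.lift_fst _ _ _
    · rw [Category.assoc, XTmap_snd, ← Category.assoc]
      exact (congrArg (· ≫ σ) (pullback.lift_snd _ _ _)).trans key.symm
  have hiff : Tv D (pullback.fst (g ≫ pullback.snd π V.hom) σ) ↔ Tv D m :=
    ⟨fun hT => (hT.comp l₁).of_eq (pullback.lift_fst _ _ _), fun hT => (hT.comp l₂).of_eq hl₂⟩
  rw [hiff]
  have hp : pc m (a * b⁻¹) = 1 ↔ Tv D m := by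
    rw [hDc]
    unfold Tv
    rw [← PicGrp.cl_eq_cl_iff]
    exact ⟨fun h => (congrArg Subtype.val h).trans PicGrp.one_val,
      fun h => Subtype.ext (h.trans PicGrp.one_val.symm)⟩
  rw [← hp, map_mul, map_inv, mul_inv_eq_one]

variable (P : Over S)

/-- **Separatedness**. -/
theorem isSeparated (hP : PicRel.RepresentedBy f P) : IsSeparated P.hom := by
  obtain ⟨φ, hφ⟩ := hP
  refine ⟨IsClosedImmersion.of_isPreimmersion _ ?_⟩
  let T : Over S := Over.mk (pullback.fst P.hom P.hom ≫ P.hom)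
  let g₁ : T ⟶ P := Over.homMk (pullback.fst P.hom P.hom)
  let g₂ : T ⟶ P := Over.homMk (pullback.snd P.hom P.hom) pullback.condition.symm
  rw [← isOpen_compl_iff, isOpen_iff_forall_mem_open]
  intro x hx
  obtain ⟨ι₁, W₁, hW₁, hloc₁⟩ := hφ.locallySurjective T g₁
  obtain ⟨i₁, x₁, hx₁⟩ := hW₁ x
  obtain ⟨c₁, hc₁, hφ₁⟩ := hloc₁ i₁
  let T₁ := PicRel.ovr T (W₁ i₁)
  obtain ⟨ι₂, W₂, hW₂, hloc₂⟩ := hφ.locallySurjective T₁ (PicRel.ovrHom T (W₁ i₁) ≫ g₂)
  obtain ⟨i₂, x₂, hx₂⟩ := hW₂ x₁
  obtain ⟨c₂, hc₂, hφ₂⟩ := hloc₂ i₂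
  haveI : Etale (W₁ i₁).hom := (W₁ i₁).prop
  haveI : Etale (W₂ i₂).hom := (W₂ i₂).prop
  let V' := PicRel.ovr T₁ (W₂ i₂)
  let v : V'.left ⟶ T₁.left := (W₂ i₂).hom
  let u : T₁.left ⟶ T.left := (W₁ i₁).hom
  let h : V' ⟶ T := PicRel.ovrHom T₁ (W₂ i₂) ≫ PicRel.ovrHom T (W₁ i₁)
  let a : PicLoc.PicSet (PicF.XT f V') := pc (PicF.XTmap f (PicRel.ovrHom T₁ (W₂ i₂))) ⟨c₁, hc₁⟩
  let b : PicLoc.PicSet (PicF.XT f V') := ⟨c₂, hc₂⟩
  have hφa : φ V' a.1 = h ≫ g₁ := by
    show φ V' (PicF.pullCl _ c₁) = _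
    rw [hφ.natural _ _ _ c₁ hc₁, hφ₁, Category.assoc]
  have hφb : φ V' b.1 = h ≫ g₂ := by
    show φ V' c₂ = _
    rw [hφ₂, Category.assoc]
  have nat : ∀ {W : Over S} (r : W ⟶ V') (c : PicLoc.PicSet (PicF.XT f V')),
      φ W (pc (PicF.XTmap f r) c).1 = r ≫ φ V' c.1 := fun r c => hφ.natural _ _ r c.1 c.2
  have hagree : ∀ t : V'.left, (v ≫ u) t ∈ Set.range (pullback.diagonal P.hom) ↔
      ∃ (K : Type u) (_ : Field K) (σ : Spec (CommRingCat.of K) ⟶ V'.left),
        σ (IsLocalRing.closedPoint K) = t ∧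
        pc (PicF.XTmap f (AbDual.ovrHom V' σ)) a = pc (PicF.XTmap f (AbDual.ovrHom V' σ)) b := by
    intro t
    constructor
    · rintro ⟨p, hp⟩
      let τ := V'.left.fromSpecResidueField t ≫ v ≫ u
      have hτ : τ (IsLocalRing.closedPoint _) = pullback.diagonal P.hom p := by
        rw [hp]; exact congrArg (v ≫ u) (V'.left.fromSpecResidueField_apply t _)
      obtain ⟨z, -⟩ := Scheme.Pullback.exists_preimage_pullback p
        (IsLocalRing.closedPoint (V'.left.residueField t)) (f := pullback.diagonal P.hom) (g := τ) hτ.symm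
      let Q := pullback (pullback.diagonal P.hom) τ
      let Ω := Q.residueField z
      let σ : Spec (CommRingCat.of Ω) ⟶ V'.left :=
        Q.fromSpecResidueField z ≫ pullback.snd _ τ ≫ V'.left.fromSpecResidueField t
      have hσ : σ (IsLocalRing.closedPoint Ω) = t := V'.left.fromSpecResidueField_apply t _
      let r := AbDual.ovrHom V' σ
      have heq : r ≫ h ≫ g₁ = r ≫ h ≫ g₂ := by
        apply Over.OverMorphism.ext
        have e : σ ≫ v ≫ u = (Q.fromSpecResidueField z ≫ pullback.fst _ τ) ≫ pullback.diagonal P.hom := by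
          simp only [σ, τ, Q, Category.assoc, pullback.condition]
        show σ ≫ (v ≫ u) ≫ pullback.fst P.hom P.hom = σ ≫ (v ≫ u) ≫ pullback.snd P.hom P.hom
        rw [← Category.assoc σ (v ≫ u), ← Category.assoc σ (v ≫ u), e, Category.assoc, Category.assoc,
          pullback.diagonal_fst]
        simp only [Category.assoc, pullback.diagonal_snd, Category.comp_id]
      have hφ' : φ _ (pc (PicF.XTmap f r) a).1 = φ _ (pc (PicF.XTmap f r) b).1 := by
        rw [nat, nat, hφa, hφb, heq]
      obtain ⟨ι₃, W₃, hW₃, hloc⟩ := hφ.locallyInjective (AbDual.ovr V' σ) _ _ (pc (PicF.XTmap f r) a).2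
        (pc (PicF.XTmap f r) b).2 hφ'
      obtain ⟨i₃, z', -⟩ := hW₃ (IsLocalRing.closedPoint Ω)
      let Ω' := (W₃ i₃).left.residueField z'
      let σ' : Spec (CommRingCat.of Ω') ⟶ V'.left :=
        (W₃ i₃).left.fromSpecResidueField z' ≫ (W₃ i₃).hom ≫ σ
      refine ⟨Ω', inferInstance, σ', ?_, ?_⟩
      · show σ ((W₃ i₃).hom ((W₃ i₃).left.fromSpecResidueField z' _)) = t
        rw [Subsingleton.elim (α := Spec (CommRingCat.of Ω)) ((W₃ i₃).hom _) (IsLocalRing.closedPoint Ω)]
        exact hσ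
      · let q : AbDual.ovr V' σ' ⟶ PicRel.ovr (AbDual.ovr V' σ) (W₃ i₃) :=
          Over.homMk ((W₃ i₃).left.fromSpecResidueField z') (by
            show _ ≫ (W₃ i₃).hom ≫ σ ≫ V'.hom = σ' ≫ V'.hom
            simp only [σ', Category.assoc])
        have e : AbDual.ovrHom V' σ' = q ≫ PicRel.ovrHom (AbDual.ovr V' σ) (W₃ i₃) ≫ r :=
          Over.OverMorphism.ext rfl
        rw [e, PicGrp.XTmap_comp, PicGrp.XTmap_comp, pc_comp, pc_comp, pc_comp, pc_comp]
        exact congrArg _ (Subtype.ext (hloc i₃))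
    · rintro ⟨K, _, σ, hσ, he⟩
      have hh : AbDual.ovrHom V' σ ≫ h ≫ g₁ = AbDual.ovrHom V' σ ≫ h ≫ g₂ := by
        rw [← hφa, ← hφb, ← nat, ← nat, he]
      have e : σ ≫ v ≫ u = ((σ ≫ v ≫ u) ≫ pullback.fst P.hom P.hom) ≫ pullback.diagonal P.hom := by
        apply pullback.hom_ext
        · rw [Category.assoc ((σ ≫ v ≫ u) ≫ _), pullback.diagonal_fst, Category.comp_id]
        · rw [Category.assoc ((σ ≫ v ≫ u) ≫ _), pullback.diagonal_snd, Category.comp_id]
          have := congrArg (fun m => m.left) hh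
          simpa [h, g₁, g₂, v, u] using this.symm
      refine ⟨((σ ≫ v ≫ u) ≫ pullback.fst P.hom P.hom) (IsLocalRing.closedPoint K), ?_⟩
      rw [← hσ, ← Scheme.Hom.comp_apply, ← e]
      rfl
  let Z : Set V'.left := (v ≫ u) ⁻¹' Set.range (pullback.diagonal P.hom)
  have hZ : IsClosed Z := by
    convert isClosed_agree f V' a b using 1
    ext t
    exact hagree t
  haveI : Etale (v ≫ u) := by
    haveI : Etale v := (W₂ i₂).prop
    haveI : Etale u := (W₁ i₁).prop
    infer_instance
  refine ⟨(v ≫ u) '' Zᶜ, ?_, (v ≫ u).isOpenMap _ hZ.isOpen_compl, ?_⟩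
  · rintro _ ⟨t, ht, rfl⟩ hr
    exact ht hr
  · refine ⟨x₂, fun h2 => hx ?_, ?_⟩
    · have hxx : (v ≫ u) x₂ = x := by
        rw [Scheme.Hom.comp_apply]; exact (congrArg u hx₂).trans hx₁
      rw [← hxx]
      exact h2
    · rw [Scheme.Hom.comp_apply]; exact (congrArg u hx₂).trans hx₁

end Groth.Agent.Lib.PicSmProp.Separated
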